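import Groth.Agent.InfLift.Scheme
import Groth.Agent.Weighting.Semicont
import Mathlib

/-!
Formal versality at a point ascends along étale morphisms.
-/

set_option autoImplicit false
set_option backward.isDefEq.respectTransparency false
set_option maxHeartbeats 1000000

universe u

open CategoryTheory AlgebraicGeometry IsLocalRing

namespace Groth.Agent.VersalEt

/-- A subring of an Artinian local ring containing the maximal ideal, with residually finite index. -/
theorem subring_artinian {C : Type u} [CommRing C] [IsLocalRing C] [IsArtinianRing C] (S : Subring C)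
    (hm : ∀ x ∈ maximalIdeal C, x ∈ S) (hinv : ∀ x ∈ S, IsUnit x → ∃ y ∈ S, x * y = 1)
    (B : Finset C) (hB : ∀ x : C, ∃ c : C → S, x - ∑ b ∈ B, (c b : C) * b ∈ maximalIdeal C) :
    ∃ _ : IsLocalRing S, IsArtinianRing S ∧ IsLocalHom S.subtype := by
  classical
  have hunit : ∀ x : S, IsUnit (x : C) → IsUnit x := fun x hx => by
    obtain ⟨y, hy, hxy⟩ := hinv x x.2 hx
    exact IsUnit.of_mul_eq_one ⟨y, hy⟩ (Subtype.ext hxy)
  let M : Ideal S := (maximalIdeal C).comap S.subtype
  have hloc : IsLocalRing S := IsLocalRing.of_nonunits_add fun {a b} ha hb => by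
    have ha' : (a : C) ∈ maximalIdeal C := fun h => ha (hunit a h)
    have hb' : (b : C) ∈ maximalIdeal C := fun h => hb (hunit b h)
    exact fun h => (add_mem ha' hb' : ((a + b : S) : C) ∈ maximalIdeal C) (h.map S.subtype)
  have hloch : IsLocalHom S.subtype := ⟨fun x hx => hunit x hx⟩
  refine ⟨hloc, ?_, hloch⟩
  haveI : M.IsPrime := Ideal.IsPrime.comap _
  obtain ⟨n, hn⟩ := IsArtinianRing.isNilpotent_jacobson_bot (R := C)
  rw [jacobson_eq_maximalIdeal ⊥ bot_ne_top] at hn
  have hprime : ∀ P : Ideal S, P.IsPrime → P = M := by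
    intro P hP
    refine le_antisymm (fun x hx => ?_) fun x hx => ?_
    · exact fun h => hP.ne_top (P.eq_top_of_isUnit_mem hx (hunit x h))
    · refine hP.mem_of_pow_mem n ?_
      have h0 : x ^ n = 0 := by
        refine Subtype.ext ?_
        have := Ideal.pow_mem_pow (show (x : C) ∈ maximalIdeal C from hx) n
        rw [hn] at this
        simpa using this
      rw [h0]; exact zero_mem P
  -- `C` is finite over `S`
  haveI : Module.Finite S C := ⟨⟨insert 1 B, by
    rw [eq_top_iff]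
    rintro x -
    obtain ⟨c, hc⟩ := hB x
    rw [show x = (x - ∑ b ∈ B, (c b : C) * b) • (1 : C) + ∑ b ∈ B, (c b : C) * b by simp]
    refine add_mem ?_ (Submodule.sum_mem _ fun b hb => ?_)
    · exact Submodule.smul_mem _ (⟨_, hm _ hc⟩ : S) (Submodule.subset_span (by simp))
    · exact Submodule.smul_mem _ (c b) (Submodule.subset_span (by simp [hb]))⟩⟩
  have hMfg : M.FG := by
    obtain ⟨T, hT⟩ := IsNoetherian.noetherian (maximalIdeal C)
    obtain ⟨Y, hY⟩ := (Module.Finite.fg_top : (⊤ : Submodule S C).FG)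
    have hmem : ∀ t ∈ T, ∀ y : C, t * y ∈ S := fun t ht y =>
      hm _ ((maximalIdeal C).mul_mem_right y (hT ▸ Submodule.subset_span ht))
    refine ⟨Finset.univ.image fun p : {t // t ∈ T} × {y // y ∈ Y} => (⟨p.1.1 * p.2.1, hmem _ p.1.2 _⟩ : S),
      le_antisymm (Submodule.span_le.2 ?_) ?_⟩
    · intro z hz
      simp only [Finset.coe_image, Finset.coe_univ, Set.image_univ, Set.mem_range] at hz
      obtain ⟨p, rfl⟩ := hz
      exact (maximalIdeal C).mul_mem_right p.2.1 (hT ▸ Submodule.subset_span p.1.2)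
    · intro z hz
      set N := Submodule.span S
        ((Finset.univ.image fun p : {t // t ∈ T} × {y // y ∈ Y} => (⟨p.1.1 * p.2.1, hmem _ p.1.2 _⟩ : S) : Finset S) : Set S)
      suffices h : ∀ w ∈ maximalIdeal C, w ∈ N.map (Algebra.linearMap S C) by
        obtain ⟨z', hz', he⟩ := h z hz
        rwa [← Subtype.ext (show ((z' : S) : C) = (z : C) from he)]
      have key : ∀ (y : C) (t : {t // t ∈ T}), t.1 * y ∈ N.map (Algebra.linearMap S C) := fun y t => by
        have hy : y ∈ Submodule.span S (Y : Set C) := hY ▸ Submodule.mem_top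
        induction hy using Submodule.span_induction with
        | mem w hw => exact ⟨⟨t.1 * w, hmem _ t.2 _⟩, Submodule.subset_span (by simp; exact ⟨t.1, t.2, w, hw, rfl⟩), rfl⟩
        | zero => rw [mul_zero]; exact zero_mem _
        | add a b _ _ ha hb => rw [mul_add]; exact add_mem ha hb
        | smul r a _ ha => rw [mul_smul_comm]; exact Submodule.smul_mem _ r ha
      intro w hw
      rw [← hT] at hw
      obtain ⟨f, -, rfl⟩ := Submodule.mem_span_finset.1 hw
      exact Submodule.sum_mem _ fun t ht => by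
        rw [smul_eq_mul, mul_comm]; exact key (f t) ⟨t, ht⟩
  haveI : IsNoetherianRing S := IsNoetherianRing.of_prime fun P hP => hprime P hP ▸ hMfg
  haveI : Ring.KrullDimLE 0 S := Ring.krullDimLE_zero_iff.2 fun P hP => by
    obtain ⟨Q, hQ, hPQ⟩ := Ideal.exists_le_maximal P hP.ne_top
    rwa [hprime P hP, ← hprime Q hQ.isPrime]
  exact isArtinianRing_iff_isNoetherianRing_krullDimLE_zero.2 ⟨inferInstance, ‹_›⟩

theorem factor {X : Scheme.{u}} {C S : Type u} [CommRing C] [CommRing S] [IsLocalRing C] [IsLocalRing S]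
    (ι : S →+* C) [IsLocalHom ι] (x : X) (ψ : X.presheaf.stalk x →+* C) [IsLocalHom ψ]
    (h : Spec (CommRingCat.of S) ⟶ X)
    (e : Spec.map (CommRingCat.ofHom ψ) ≫ X.fromSpecStalk x = Spec.map (CommRingCat.ofHom ι) ≫ h) :
    ∃ χ : X.presheaf.stalk x →+* S, ι.comp χ = ψ ∧ Spec.map (CommRingCat.ofHom χ) ≫ X.fromSpecStalk x = h := by
  have hx : h (closedPoint S) = x := by
    haveI : IsLocalHom (CommRingCat.ofHom ι).hom := ‹_›
    haveI : IsLocalHom (CommRingCat.ofHom ψ).hom := ‹_›
    have e1 := congrArg (fun m : Spec (CommRingCat.of C) ⟶ X => m (closedPoint C)) e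
    simp only [Scheme.Hom.comp_apply] at e1
    rw [show Spec.map (CommRingCat.ofHom ι) (closedPoint C) = closedPoint S from Spec_closedPoint,
      show Spec.map (CommRingCat.ofHom ψ) (closedPoint C) = closedPoint (X.presheaf.stalk x) from Spec_closedPoint] at e1
    exact e1.symm.trans Scheme.fromSpecStalk_closedPoint
  subst hx
  refine ⟨(Scheme.stalkClosedPointTo h).hom, ?_, Scheme.Spec_stalkClosedPointTo_fromSpecStalk h⟩
  have e2 : Spec.map (CommRingCat.ofHom ψ) ≫ X.fromSpecStalk (h (closedPoint S)) =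
      Spec.map (Scheme.stalkClosedPointTo h ≫ CommRingCat.ofHom ι) ≫ X.fromSpecStalk (h (closedPoint S)) := by
    rw [Spec.map_comp, Category.assoc, Scheme.Spec_stalkClosedPointTo_fromSpecStalk]
    exact e
  rw [cancel_mono] at e2
  have := Spec.map_injective e2
  exact (congrArg CommRingCat.Hom.hom this).symm

theorem residue_eq_of_sub_mem {Y : Scheme.{u}} (y : Y) {s t : Y.presheaf.stalk y}
    (h : s - t ∈ maximalIdeal (Y.presheaf.stalk y)) : Y.residue y s = Y.residue y t :=
  (Ideal.Quotient.eq).2 h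

theorem sub_mem_of_residue_eq {Y : Scheme.{u}} (y : Y) {s t : Y.presheaf.stalk y}
    (h : Y.residue y s = Y.residue y t) : s - t ∈ maximalIdeal (Y.presheaf.stalk y) :=
  (Ideal.Quotient.eq).1 h

theorem spec_equiv_cancel {A B : Type u} [CommRing A] [CommRing B] (q : A ≃+* B) {X : Scheme.{u}}
    (a : Spec (CommRingCat.of B) ⟶ X) :
    Spec.map (CommRingCat.ofHom q.toRingHom) ≫ Spec.map (CommRingCat.ofHom q.symm.toRingHom) ≫ a = a := by
  rw [← Spec.map_comp_assoc, show CommRingCat.ofHom q.symm.toRingHom ≫ CommRingCat.ofHom q.toRingHom = 𝟙 _ from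
    CommRingCat.hom_ext (RingHom.ext fun x => q.apply_symm_apply x), Spec.map_id, Category.id_comp]

theorem surjective_residueFieldMap {X : Scheme.{u}} {S : Type u} [CommRing S] [IsLocalRing S] (x : X)
    (φ : X.presheaf.stalk x →+* S) [IsLocalHom φ] (hφ : ∀ s : S, ∃ z, s - φ z ∈ maximalIdeal S)
    (h : Spec (CommRingCat.of S) ⟶ X) (e : Spec.map (CommRingCat.ofHom φ) ≫ X.fromSpecStalk x = h) :
    h (closedPoint S) = x ∧ Function.Surjective (h.residueFieldMap (closedPoint S)).hom := by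
  have hx : h (closedPoint S) = x := by
    haveI : IsLocalHom (CommRingCat.ofHom φ).hom := ‹_›
    rw [← e, Scheme.Hom.comp_apply,
      show Spec.map (CommRingCat.ofHom φ) (closedPoint S) = closedPoint (X.presheaf.stalk x) from Spec_closedPoint]
    exact Scheme.fromSpecStalk_closedPoint
  refine ⟨hx, ?_⟩
  subst hx
  have e' := e.trans (Scheme.Spec_stalkClosedPointTo_fromSpecStalk h).symm
  rw [cancel_mono] at e'
  have hφeq : φ = (Scheme.stalkClosedPointTo h).hom := congrArg CommRingCat.Hom.hom (Spec.map_injective e')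
  intro y
  obtain ⟨s, rfl⟩ := Scheme.residue_surjective _ _ y
  let i := AlgebraicGeometry.stalkClosedPointIso (CommRingCat.of S)
  obtain ⟨z, hz⟩ := hφ (i.hom.hom s)
  refine ⟨X.residue _ z, ?_⟩
  have h1 := congrArg (fun k => k.hom z) (Scheme.residue_residueFieldMap h (closedPoint S))
  simp only [CommRingCat.hom_comp, RingHom.comp_apply] at h1
  rw [h1]
  refine residue_eq_of_sub_mem _ ?_
  intro hu
  refine hz ?_
  have := hu.map i.hom.hom
  rw [map_sub] at this
  rw [hφeq, ← neg_sub, IsUnit.neg_iff]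
  exact this

theorem exists_residue_lift {X : Scheme.{u}} {C : Type u} [CommRing C] [IsLocalRing C]
    (a : Spec (CommRingCat.of C) ⟶ X)
    (ha : Function.Surjective (a.residueFieldMap (closedPoint C)).hom) (c : C) :
    ∃ z, c - (Scheme.stalkClosedPointTo a).hom z ∈ maximalIdeal C := by
  let i := AlgebraicGeometry.stalkClosedPointIso (CommRingCat.of C)
  obtain ⟨w, hw⟩ := ha ((Spec (CommRingCat.of C)).residue (closedPoint C) (i.inv.hom c))
  obtain ⟨z, rfl⟩ := Scheme.residue_surjective _ _ w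
  have h1 := congrArg (fun k => k.hom z) (Scheme.residue_residueFieldMap a (closedPoint C))
  simp only [CommRingCat.hom_comp, RingHom.comp_apply] at h1
  rw [h1] at hw
  have h2 : (a.stalkMap (closedPoint C)).hom z - i.inv.hom c ∈ maximalIdeal _ := sub_mem_of_residue_eq _ hw
  refine ⟨z, fun hu => h2 ?_⟩
  have h3 := (hu.map i.inv.hom).neg
  rw [map_sub, neg_sub] at h3
  have h4 : i.inv.hom ((Scheme.stalkClosedPointTo a).hom z) = (a.stalkMap (closedPoint C)).hom z :=
    congrArg (fun k => k.hom z) (show Scheme.stalkClosedPointTo a ≫ i.inv = a.stalkMap (closedPoint C) by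
      rw [Scheme.stalkClosedPointTo, Category.assoc, Iso.hom_inv_id, Category.comp_id])
  rw [← h4]
  exact h3

theorem exists_lift {X Y : Scheme.{u}} (f : X ⟶ Y) [Etale f] {A : Type u} [CommRing A] (I : Ideal A)
    (hI : IsNilpotent I) :
    ∀ (a : Spec (CommRingCat.of (A ⧸ I)) ⟶ X) (b : Spec (CommRingCat.of A) ⟶ Y),
      Spec.map (CommRingCat.ofHom (Ideal.Quotient.mk I)) ≫ b = a ≫ f →
        ∃ l : Spec (CommRingCat.of A) ⟶ X,
          Spec.map (CommRingCat.ofHom (Ideal.Quotient.mk I)) ≫ l = a ∧ l ≫ f = b := by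
  refine Ideal.IsNilpotent.induction_on
    (P := fun {A : Type u} [CommRing A] (I : Ideal A) => ∀ (a : Spec (CommRingCat.of (A ⧸ I)) ⟶ X)
      (b : Spec (CommRingCat.of A) ⟶ Y),
      Spec.map (CommRingCat.ofHom (Ideal.Quotient.mk I)) ≫ b = a ≫ f →
        ∃ l : Spec (CommRingCat.of A) ⟶ X,
          Spec.map (CommRingCat.ofHom (Ideal.Quotient.mk I)) ≫ l = a ∧ l ≫ f = b) I hI ?_ ?_
  · intro A _ I hI a b e
    obtain ⟨l, hl, -⟩ := InfLift.isFormallyEtaleHom_of_etale f A I hI a b e
    exact ⟨l, hl⟩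
  · intro A _ I J hIJ h₁ h₂ a b e
    let q := DoubleQuot.quotQuotEquivQuotOfLE hIJ
    obtain ⟨l₁, hl₁, hl₁'⟩ := h₂ (Spec.map (CommRingCat.ofHom q.symm.toRingHom) ≫ a)
      (Spec.map (CommRingCat.ofHom (Ideal.Quotient.mk I)) ≫ b) (by
        rw [Category.assoc, ← e, ← Spec.map_comp_assoc, ← Spec.map_comp_assoc]
        rfl)
    obtain ⟨l, hl, hl'⟩ := h₁ l₁ b hl₁'.symm
    refine ⟨l, ?_, hl'⟩
    have he : CommRingCat.ofHom (Ideal.Quotient.mk J) =
        CommRingCat.ofHom (Ideal.Quotient.mk I) ≫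
          CommRingCat.ofHom (Ideal.Quotient.mk (J.map (Ideal.Quotient.mk I))) ≫ CommRingCat.ofHom q.toRingHom := rfl
    rw [he, Spec.map_comp, Spec.map_comp, Category.assoc, Category.assoc, hl, hl₁]
    exact spec_equiv_cancel q a

theorem versal {S T U : Scheme.{u}} (g : T ⟶ S) (e : U ⟶ T) [Etale e] (u : U)
    (hT : ∀ (C C' : Type u) [CommRing C] [CommRing C'] [IsLocalRing C] [IsLocalRing C'] [IsArtinianRing C]
        [IsArtinianRing C'] (π : C' →+* C), Function.Surjective π →
        ∀ (a : Spec (CommRingCat.of C) ⟶ T) (b : Spec (CommRingCat.of C') ⟶ S),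
          a (IsLocalRing.closedPoint C) = e u →
          Function.Surjective (a.residueFieldMap (IsLocalRing.closedPoint C)).hom →
          Spec.map (CommRingCat.ofHom π) ≫ b = a ≫ g →
          ∃ c : Spec (CommRingCat.of C') ⟶ T, Spec.map (CommRingCat.ofHom π) ≫ c = a ∧ c ≫ g = b)
    (C C' : Type u) [CommRing C] [CommRing C'] [IsLocalRing C] [IsLocalRing C'] [IsArtinianRing C]
    [IsArtinianRing C'] (π : C' →+* C) (hπ : Function.Surjective π)
    (a : Spec (CommRingCat.of C) ⟶ U) (b : Spec (CommRingCat.of C') ⟶ S) (hu : a (closedPoint C) = u)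
    (ha : Function.Surjective (a.residueFieldMap (closedPoint C)).hom)
    (he : Spec.map (CommRingCat.ofHom π) ≫ b = a ≫ (e ≫ g)) :
    ∃ c : Spec (CommRingCat.of C') ⟶ U, Spec.map (CommRingCat.ofHom π) ≫ c = a ∧ c ≫ (e ≫ g) = b := by
  classical
  subst hu
  haveI hπl : IsLocalHom π := IsLocalHom.of_surjective π hπ
  set u := a (closedPoint C)
  let φu : U.presheaf.stalk u →+* C := (Scheme.stalkClosedPointTo a).hom
  let ε : T.presheaf.stalk (e u) →+* U.presheaf.stalk u := (e.stalkMap u).hom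
  let φ : T.presheaf.stalk (e u) →+* C := φu.comp ε
  haveI : IsLocalHom φu := Scheme.isLocalHom_stalkClosedPointTo' a
  haveI : IsLocalHom ε := inferInstanceAs (IsLocalHom (e.stalkMap u).hom)
  haveI : IsLocalHom φ := RingHom.isLocalHom_comp _ _
  have hφa : Spec.map (CommRingCat.ofHom φ) ≫ T.fromSpecStalk (e u) = a ≫ e := by
    conv_rhs => rw [← Scheme.Spec_stalkClosedPointTo_fromSpecStalk a, Category.assoc,
      ← Scheme.SpecMap_stalkMap_fromSpecStalk, ← Category.assoc, ← Spec.map_comp]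
    rfl
  let k₀ : Subring (ResidueField C) := ((residue C).comp φ).range
  let S₀ : Subring C := k₀.comap (residue C)
  have hS₀m : ∀ x ∈ maximalIdeal C, x ∈ S₀ := fun x hx => ⟨0, by
    rw [map_zero, (residue_eq_zero_iff x).2 hx]⟩
  have hS₀inv : ∀ x ∈ S₀, IsUnit x → ∃ y ∈ S₀, x * y = 1 := by
    rintro x ⟨z, hz⟩ hx
    have hzu : IsUnit z := by
      refine (isUnit_map_iff φ z).1 ?_
      have : IsUnit (residue C (φ z)) := by
        rw [show residue C (φ z) = residue C x from hz]; exact hx.map _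
      exact (isUnit_map_iff (residue C) _).1 this
    refine ⟨↑hx.unit⁻¹, ⟨↑hzu.unit⁻¹, ?_⟩, hx.mul_val_inv⟩
    refine left_inv_eq_right_inv (a := residue C x) ?_ (by rw [← map_mul, hx.mul_val_inv, map_one])
    rw [← hz, ← map_mul, hzu.val_inv_mul, map_one]
  obtain ⟨B, hB⟩ : ∃ B : Finset C, ∀ x : C, ∃ c : C → S₀, x - ∑ b ∈ B, (c b : C) * b ∈ maximalIdeal C := by
    haveI := Weighting.locallyQuasiFinite_of_etale e
    have hfin := Weighting.finite_residueFieldMap e u
    algebraize [(e.residueFieldMap u).hom]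
    obtain ⟨Y, hY⟩ := (Module.Finite.fg_top : (⊤ : Submodule (T.residueField (e u)) (U.residueField u)).FG)
    choose v hv using fun y : {y // y ∈ Y} => Scheme.residue_surjective U u y.1
    refine ⟨Finset.univ.image fun y => φu (v y), fun x => ?_⟩
    obtain ⟨z, hz⟩ := exists_residue_lift a ha x
    obtain ⟨f, -, hf⟩ := Submodule.mem_span_finset.1
      (show U.residue u z ∈ Submodule.span (T.residueField (e u)) (Y : Set _) by rw [hY]; trivial)
    choose w hw using fun y : {y // y ∈ Y} => Scheme.residue_surjective T (e u) (f y.1)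
    have hmem : z - ∑ y, ε (w y) * v y ∈ maximalIdeal _ := sub_mem_of_residue_eq _ (by
      show U.residue u z = U.residue u (∑ y, ε (w y) * v y)
      rw [← hf, ← Finset.sum_coe_sort Y, map_sum]
      refine Finset.sum_congr rfl fun y _ => ?_
      rw [map_mul, hv, ← hw, Algebra.smul_def]
      congr 1)
    have hS : ∀ y, φ (w y) ∈ S₀ := fun y => ⟨w y, rfl⟩
    refine ⟨fun c => ⟨∑ y with φu (v y) = c, φ (w y), S₀.sum_mem fun y _ => hS y⟩, ?_⟩
    rw [show x - _ = (x - φu z) + φu (z - ∑ y, ε (w y) * v y) by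
      rw [map_sub, map_sum]
      simp only [map_mul]
      rw [← Finset.sum_fiberwise_of_maps_to (fun y _ => Finset.mem_image_of_mem (fun y => φu (v y)) (Finset.mem_univ y))
        (fun y => φu (ε (w y)) * φu (v y))]
      rw [sub_add_sub_cancel]
      congr 1
      refine Finset.sum_congr rfl fun b _ => ?_
      rw [Finset.sum_mul]
      refine Finset.sum_congr rfl fun y hy => ?_
      rw [(Finset.mem_filter.1 hy).2]
      rfl]
    exact add_mem hz (map_nonunit φu _ hmem)
  obtain ⟨_, hS₀a, hιl⟩ := subring_artinian S₀ hS₀m hS₀inv B hB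
  haveI := hS₀a
  haveI := hιl
  -- the subring upstairs
  let S₁ : Subring C' := S₀.comap π
  have hπm : ∀ x, x ∈ maximalIdeal C' ↔ π x ∈ maximalIdeal C := fun x =>
    ⟨map_nonunit π x, fun h hx => h (hx.map π)⟩
  obtain ⟨_, hS₁a, hι'l⟩ : ∃ _ : IsLocalRing S₁, IsArtinianRing S₁ ∧ IsLocalHom S₁.subtype := by
    choose l hl using hπ
    refine subring_artinian S₁ (fun x hx => hS₀m _ ((hπm x).1 hx)) ?_ (B.image l) fun x => ?_
    · intro x hx hxu
      obtain ⟨y, hy, hxy⟩ := hS₀inv (π x) hx (hxu.map π)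
      refine ⟨↑hxu.unit⁻¹, ?_, hxu.mul_val_inv⟩
      show π _ ∈ S₀
      rwa [show π ↑hxu.unit⁻¹ = y from left_inv_eq_right_inv (a := π x) (by
        rw [← map_mul, hxu.val_inv_mul, map_one]) hxy]
    · obtain ⟨c, hc⟩ := hB (π x)
      refine ⟨fun d => ⟨l (c (π d) : C), by show π _ ∈ S₀; rw [hl]; exact (c (π d)).2⟩, ?_⟩
      rw [hπm, map_sub, map_sum, Finset.sum_image (fun p _ q _ h => by rw [← hl p, ← hl q, h])]
      simpa only [map_mul, hl] using hc
  haveI := hS₁a
  haveI := hι'l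
  let π₀ : S₁ →+* S₀ := (π.comp S₁.subtype).codRestrict S₀ fun x => x.2
  have hπ₀ : Function.Surjective π₀ := fun y => by
    obtain ⟨x, hx⟩ := hπ y
    exact ⟨⟨x, by show π x ∈ S₀; rw [hx]; exact y.2⟩, Subtype.ext hx⟩
  let φ₀ : T.presheaf.stalk (e u) →+* S₀ := φ.codRestrict S₀ fun z => ⟨z, rfl⟩
  haveI : IsLocalHom φ₀ := ⟨fun z hz => (isUnit_map_iff φ z).1 (hz.map S₀.subtype)⟩
  let a₀ : Spec (CommRingCat.of S₀) ⟶ T := Spec.map (CommRingCat.ofHom φ₀) ≫ T.fromSpecStalk (e u)
  have ha₀ : Spec.map (CommRingCat.ofHom S₀.subtype) ≫ a₀ = a ≫ e := by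
    rw [← hφa, ← Category.assoc, ← Spec.map_comp]
    rfl
  obtain ⟨hpt, hres⟩ := surjective_residueFieldMap (e u) φ₀ (fun s => by
    obtain ⟨z, hz⟩ := s.2
    refine ⟨z, fun h => ?_⟩
    have h2 := (h.map S₀.subtype)
    refine (?_ : (s : C) - φ z ∈ maximalIdeal C) h2
    rw [← residue_eq_zero_iff, map_sub, sub_eq_zero]
    exact hz.symm) a₀ rfl
  let ψ : S.presheaf.stalk (b (closedPoint C')) →+* C' := (Scheme.stalkClosedPointTo b).hom
  haveI : IsLocalHom ψ := Scheme.isLocalHom_stalkClosedPointTo' b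
  haveI : IsLocalHom (π.comp ψ) := RingHom.isLocalHom_comp _ _
  obtain ⟨χ, hχ, hχg⟩ := factor S₀.subtype (b (closedPoint C')) (π.comp ψ) (a₀ ≫ g) (by
    rw [← Category.assoc, ha₀, Category.assoc, ← he]
    conv_rhs => rw [← Scheme.Spec_stalkClosedPointTo_fromSpecStalk b, ← Category.assoc, ← Spec.map_comp]
    rfl)
  let ψ₀ : S.presheaf.stalk (b (closedPoint C')) →+* S₁ := ψ.codRestrict S₁ fun z => by
    show π (ψ z) ∈ S₀
    rw [← show S₀.subtype (χ z) = π (ψ z) from RingHom.congr_fun hχ z]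
    exact (χ z).2
  let b₀ : Spec (CommRingCat.of S₁) ⟶ S := Spec.map (CommRingCat.ofHom ψ₀) ≫ S.fromSpecStalk _
  have hb₀ : Spec.map (CommRingCat.ofHom S₁.subtype) ≫ b₀ = b := by
    conv_rhs => rw [← Scheme.Spec_stalkClosedPointTo_fromSpecStalk b]
    rw [← Category.assoc, ← Spec.map_comp]
    rfl
  have hcompat : Spec.map (CommRingCat.ofHom π₀) ≫ b₀ = a₀ ≫ g := by
    rw [← hχg, ← Category.assoc, ← Spec.map_comp]
    congr 2
    exact CommRingCat.hom_ext (RingHom.ext fun z => Subtype.ext (RingHom.congr_fun hχ z).symm)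
  obtain ⟨c₀, hc₀, hc₀g⟩ := hT S₀ S₁ π₀ hπ₀ a₀ b₀ hpt hres hcompat
  let c' := Spec.map (CommRingCat.ofHom S₁.subtype) ≫ c₀
  have hc' : Spec.map (CommRingCat.ofHom π) ≫ c' = a ≫ e := by
    rw [← ha₀, ← hc₀, ← Category.assoc, ← Category.assoc, ← Spec.map_comp, ← Spec.map_comp]
    rfl
  let q := RingHom.quotientKerEquivOfSurjective hπ
  have hnil : IsNilpotent (RingHom.ker π) := by
    obtain ⟨n, hn⟩ := IsArtinianRing.isNilpotent_jacobson_bot (R := C')
    rw [jacobson_eq_maximalIdeal ⊥ bot_ne_top] at hn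
    exact ⟨n, le_bot_iff.1 ((Ideal.pow_right_mono (le_maximalIdeal (RingHom.ker_ne_top π)) n).trans hn.le)⟩
  have hq : CommRingCat.ofHom π =
      CommRingCat.ofHom (Ideal.Quotient.mk (RingHom.ker π)) ≫ CommRingCat.ofHom q.toRingHom := rfl
  obtain ⟨l, hl, hle⟩ := exists_lift e (RingHom.ker π) hnil (Spec.map (CommRingCat.ofHom q.symm.toRingHom) ≫ a) c'
    (by
      rw [Category.assoc, ← hc', hq, Spec.map_comp, Category.assoc]
      exact (spec_equiv_cancel q.symm _).symm)
  refine ⟨l, ?_, ?_⟩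
  · rw [hq, Spec.map_comp, Category.assoc, hl]
    exact spec_equiv_cancel q a
  · rw [← Category.assoc, hle, ← hb₀, ← hc₀g]
    exact Category.assoc _ _ _

end Groth.Agent.VersalEt
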